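/-
The double cover of the alternating group from a Clifford algebra over `ZMod 3`:
the algebra acts on functions on the cube `Fin n → ZMod 2` by left multiplication.

Main definitions (namespace `Cfsg.Agent.DoubleCoverAlt`):
* `T i j` : the operator `e i - e j`, a lift of the transposition `(i j)`
* `Cover n` : a finite group, `proj n : Cover n →* alternatingGroup (Fin n)` surjective
  with kernel `{1, negOne n}` (`mem_ker_proj_iff`); `negOne_mem_commutator`.
-/
import Cfsg.Agent.EqLemmas

set_option autoImplicit false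

namespace Cfsg.Agent.DoubleCoverAlt

variable (n : ℕ)

/-- The cube. -/
abbrev Cube := Fin n → ZMod 2

/-- The algebra of matrices indexed by the cube. -/
abbrev A := Matrix (Cube n) (Cube n) (ZMod 3)

/-- The sign of a bit. -/
def bitSign (a : ZMod 2) : ZMod 3 := if a = 0 then 1 else -1

lemma neg_one_ne_one' : (-1 : ZMod 3) ≠ 1 := by decide

lemma bitSign_mul_self (a : ZMod 2) : bitSign a * bitSign a = 1 := by
  unfold bitSign; split_ifs <;> decide

lemma bitSign_add_one (a : ZMod 2) : bitSign (a + 1) = -bitSign a := by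
  revert a; decide

variable {n}

/-- The sign attached to a set of coordinates. -/
def setSign (S : Finset (Fin n)) (s : Cube n) : ZMod 3 := ∏ k ∈ S, bitSign (s k)

/-- The unit vector. -/
def unitVec (i : Fin n) : Cube n := Pi.single i 1

lemma setSign_mul_self (S : Finset (Fin n)) (s : Cube n) : setSign S s * setSign S s = 1 := by
  rw [setSign, ← Finset.prod_mul_distrib, Finset.prod_eq_one fun k _ => bitSign_mul_self _]

lemma setSign_add_unitVec (S : Finset (Fin n)) (i : Fin n) (s : Cube n) :
    setSign S (s + unitVec i) = (if i ∈ S then -1 else 1) * setSign S s := by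
  unfold setSign
  split_ifs with h
  · rw [← Finset.mul_prod_erase S _ h, ← Finset.mul_prod_erase S _ h,
      Finset.prod_congr rfl (g := fun k => bitSign (s k)) fun k hk => ?_]
    · simp only [unitVec, Pi.add_apply, Pi.single_eq_same, bitSign_add_one]
      ring
    · simp [unitVec, Finset.ne_of_mem_erase hk]
  · rw [one_mul]
    refine Finset.prod_congr rfl fun k hk => ?_
    simp [unitVec, show k ≠ i from fun e => h (e ▸ hk)]

lemma add_unitVec_self (s : Cube n) (i : Fin n) : s + unitVec i + unitVec i = s := by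
  funext k
  simp only [Pi.add_apply, add_assoc, CharTwo.add_self_eq_zero, add_zero]

lemma eq_add_iff (s t d : Cube n) : t = s + d ↔ s = t + d := by
  have hd : d + d = 0 := funext fun k => by simp [CharTwo.add_self_eq_zero]
  constructor <;> rintro rfl <;> rw [add_assoc, hd, add_zero]

/-- A monomial matrix. -/
def mono (S : Finset (Fin n)) (d : Cube n) : A n :=
  Matrix.of fun s t => if t = s + d then setSign S s else 0

lemma mono_apply (S : Finset (Fin n)) (d s t : Cube n) :
    mono S d s t = if t = s + d then setSign S s else 0 := rfl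

lemma mono_mul_apply (S : Finset (Fin n)) (d : Cube n) (M : A n) (s t : Cube n) :
    (mono S d * M) s t = setSign S s * M (s + d) t := by
  simp [Matrix.mul_apply, mono_apply]

lemma mul_mono_apply (S : Finset (Fin n)) (d : Cube n) (M : A n) (s t : Cube n) :
    (M * mono S d) s t = M s (t + d) * setSign S (t + d) := by
  simp [Matrix.mul_apply, mono_apply, eq_add_iff _ t d]

/-- Left multiplication by a generator. -/
def e (i : Fin n) : A n := mono (Finset.univ.filter (· < i)) (unitVec i)

/-- Right multiplication by a generator. -/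
def f (i : Fin n) : A n := mono (Finset.univ.filter (i < ·)) (unitVec i)

/-- The parity operator. -/
def P : A n := mono Finset.univ 0

lemma e_mul_e_self (i : Fin n) : e i * e i = 1 := by
  ext s t
  simp only [e, mono_mul_apply, mono_apply, setSign_add_unitVec, Finset.mem_filter, Finset.mem_univ,
    true_and, lt_irrefl, if_false, one_mul, add_unitVec_self, mul_ite, setSign_mul_self, mul_zero,
    Matrix.one_apply, eq_comm (a := t)]

lemma e_anti {i j : Fin n} (h : i ≠ j) : e i * e j = -(e j * e i) := by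
  ext s t
  simp only [e, Matrix.neg_apply, mono_mul_apply, mono_apply, setSign_add_unitVec, Finset.mem_filter,
    Finset.mem_univ, true_and, add_right_comm s]
  rcases h.lt_or_gt with hij | hij <;> simp [hij, hij.not_gt] <;> split_ifs <;> ring

lemma e_f_comm (i j : Fin n) : e i * f j = f j * e i := by
  ext s t
  simp only [e, f, mono_mul_apply, mono_apply, setSign_add_unitVec, Finset.mem_filter, Finset.mem_univ,
    true_and, add_right_comm s]
  split_ifs <;> ring

lemma P_e (i : Fin n) : P * e i = -(e i * P) := by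
  ext s t
  simp only [e, P, Matrix.neg_apply, mono_mul_apply, mono_apply, setSign_add_unitVec, Finset.mem_univ,
    if_true, add_zero]
  split_ifs <;> ring

/-- A lift of a transposition. -/
def T (i j : Fin n) : A n := e i - e j

lemma T_mul_self {i j : Fin n} (h : i ≠ j) : T i j * T i j = -1 := by
  rw [T, sub_mul, mul_sub, mul_sub, e_mul_e_self, e_mul_e_self, e_anti h]
  have h3 : (1 + 1 + 1 : A n) = 0 := by
    have : ((1 + 1 + 1 : ZMod 3)) • (1 : A n) = 0 := by rw [show (1 + 1 + 1 : ZMod 3) = 0 by decide, zero_smul]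
    simpa [add_smul] using this
  linear_combination (norm := abel) h3

lemma T_e {i j : Fin n} (h : i ≠ j) (m : Fin n) : T i j * e m = -(e (Equiv.swap i j m) * T i j) := by
  unfold T
  rw [sub_mul, mul_sub]
  rcases eq_or_ne m i with rfl | hi
  · rw [Equiv.swap_apply_left, e_mul_e_self, e_mul_e_self]; abel
  rcases eq_or_ne m j with rfl | hj
  · rw [Equiv.swap_apply_right, e_mul_e_self, e_mul_e_self]; abel
  · rw [Equiv.swap_apply_of_ne_of_ne hi hj, e_anti (Ne.symm hi), e_anti (Ne.symm hj)]; abel

lemma T_f (i j m : Fin n) : T i j * f m = f m * T i j := by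
  rw [T, sub_mul, mul_sub, e_f_comm, e_f_comm]

lemma T_P (i j : Fin n) : T i j * P = -(P * T i j) := by
  rw [T, sub_mul, mul_sub, P_e, P_e]; abel

/-- The lift of a transposition as a unit. -/
def uT {i j : Fin n} (h : i ≠ j) : (A n)ˣ :=
  ⟨T i j, -T i j, by rw [mul_neg, T_mul_self h, neg_neg], by rw [neg_mul, T_mul_self h, neg_neg]⟩

lemma coe_uT {i j : Fin n} (h : i ≠ j) : (uT h : A n) = T i j := rfl

/-- The sign of a permutation as a scalar. -/
def sg : Equiv.Perm (Fin n) →* ZMod 3 where
  toFun σ := ((Equiv.Perm.sign σ : ℤ) : ZMod 3)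
  map_one' := by simp
  map_mul' σ τ := by simp [map_mul]

lemma sg_mul_self (σ : Equiv.Perm (Fin n)) : sg σ * sg σ = 1 := by
  rcases Int.units_eq_one_or (Equiv.Perm.sign σ) with h | h <;> simp [sg, h]

lemma sg_swap {i j : Fin n} (h : i ≠ j) : sg (Equiv.swap i j) = -1 := by
  simp [sg, Equiv.Perm.sign_swap h]

lemma sg_of_mem {σ : Equiv.Perm (Fin n)} (h : σ ∈ alternatingGroup (Fin n)) : sg σ = 1 := by
  simp [sg, Equiv.Perm.mem_alternatingGroup.mp h]

/-- Compatible pairs of an invertible operator and a permutation. -/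
structure Compat (x : A n) (σ : Equiv.Perm (Fin n)) : Prop where
  e_eq : ∀ m, x * e m = sg σ • (e (σ m) * x)
  f_eq : ∀ m, x * f m = f m * x
  P_eq : x * P = sg σ • (P * x)

lemma Compat.mul {x y : A n} {σ τ : Equiv.Perm (Fin n)} (hx : Compat x σ) (hy : Compat y τ) :
    Compat (x * y) (σ * τ) where
  e_eq m := by
    rw [mul_assoc, hy.e_eq, mul_smul_comm, ← mul_assoc, hx.e_eq, smul_mul_assoc, smul_smul, map_mul,
      mul_comm (sg τ), mul_assoc]
    rfl
  f_eq m := by rw [mul_assoc, hy.f_eq, ← mul_assoc, hx.f_eq, mul_assoc]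
  P_eq := by
    rw [mul_assoc, hy.P_eq, mul_smul_comm, ← mul_assoc, hx.P_eq, smul_mul_assoc, smul_smul, map_mul,
      mul_comm (sg τ), mul_assoc]

lemma compat_one : Compat (1 : A n) 1 := by constructor <;> simp

lemma compat_T {i j : Fin n} (h : i ≠ j) : Compat (T i j) (Equiv.swap i j) where
  e_eq m := by rw [sg_swap h, T_e h, neg_one_smul]
  f_eq m := T_f i j m
  P_eq := by rw [sg_swap h, T_P, neg_one_smul]

variable (n)

/-- Invertible operators compatible with a permutation. -/
def pinGroup : Subgroup ((A n)ˣ × Equiv.Perm (Fin n)) where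
  carrier := {p | Compat (p.1 : A n) p.2}
  one_mem' := compat_one
  mul_mem' := fun hx hy => hx.mul hy
  inv_mem' := fun {p} hp => by
    have key : ∀ {a b : A n} {c : ZMod 3}, c * c = 1 → (p.1 : A n) * a = c • (b * p.1) →
        ((p.1⁻¹ : (A n)ˣ) : A n) * b = c • (a * ((p.1⁻¹ : (A n)ˣ) : A n)) := by
      intro a b c hc hab
      have hab' : a = c • (((p.1⁻¹ : (A n)ˣ) : A n) * b * p.1) := by
        rw [mul_assoc, ← mul_smul_comm, ← hab, ← mul_assoc, Units.inv_mul, one_mul]
      rw [hab', smul_mul_assoc, smul_smul, hc, one_smul, mul_assoc, Units.mul_inv, mul_one]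
    have hs : sg p.2⁻¹ = sg p.2 := by
      have h1 : sg p.2⁻¹ * sg p.2 = 1 := by rw [← map_mul, inv_mul_cancel, map_one]
      calc sg p.2⁻¹ = sg p.2⁻¹ * (sg p.2 * sg p.2) := by rw [sg_mul_self, mul_one]
        _ = sg p.2 := by rw [← mul_assoc, h1, one_mul]
    refine ⟨fun m => ?_, fun m => ?_, ?_⟩
    · show ((p.1⁻¹ : (A n)ˣ) : A n) * e m = sg p.2⁻¹ • (e (p.2⁻¹ m) * ((p.1⁻¹ : (A n)ˣ) : A n))
      rw [hs]
      exact key (sg_mul_self _) (by simpa using hp.e_eq (p.2⁻¹ m))
    · have h := key (a := f m) (b := f m) (c := 1) (one_mul 1) (by rw [one_smul]; exact hp.f_eq m)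
      rw [one_smul] at h
      exact h
    · show ((p.1⁻¹ : (A n)ˣ) : A n) * P = sg p.2⁻¹ • (P * ((p.1⁻¹ : (A n)ˣ) : A n))
      rw [hs]
      exact key (sg_mul_self _) hp.P_eq

/-- The double cover of the alternating group. -/
def Cover : Subgroup ((A n)ˣ × Equiv.Perm (Fin n)) :=
  pinGroup n ⊓ (alternatingGroup (Fin n)).comap (MonoidHom.snd _ _)

/-- The projection. -/
def proj : Cover n →* alternatingGroup (Fin n) where
  toFun p := ⟨p.1.2, p.2.2⟩
  map_one' := rfl
  map_mul' _ _ := rfl

@[simp] lemma coe_proj (p : Cover n) : (proj n p : Equiv.Perm (Fin n)) = p.1.2 := rfl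

instance : Finite (A n)ˣ := Finite.of_injective (fun u : (A n)ˣ => (u : A n)) Units.val_injective

instance : Finite (Cover n) :=
  Finite.of_injective (fun p : Cover n => p.1) Subtype.coe_injective

lemma compat_neg_one : Compat (-1 : A n) 1 := by constructor <;> simp

/-- The central involution. -/
def negOne : Cover n := ⟨(-1, 1), by
  refine ⟨?_, Subgroup.one_mem (alternatingGroup (Fin n))⟩
  show Compat ((-1 : (A n)ˣ) : A n) 1
  rw [Units.val_neg, Units.val_one]
  exact compat_neg_one n⟩

theorem negOne_mem_center : negOne n ∈ Subgroup.center (Cover n) := by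
  refine Subgroup.mem_center_iff.mpr fun p => Subtype.ext (Prod.ext ?_ ?_)
  · show p.1.1 * -1 = -1 * p.1.1
    simp
  · show p.1.2 * 1 = 1 * p.1.2
    simp

theorem orderOf_negOne : orderOf (negOne n) = 2 := by
  refine orderOf_eq_prime (Subtype.ext (Prod.ext ?_ ?_)) fun h => ?_
  · show ((-1 : (A n)ˣ) ^ 2) = 1
    simp
  · show (1 : Equiv.Perm (Fin n)) ^ 2 = 1
    simp
  · have h1 : ((-1 : (A n)ˣ) : A n) = 1 := congrArg (fun p : Cover n => (p.1.1 : A n)) h
    have h2 := congrFun (congrFun h1 0) 0
    simp only [Units.val_neg, Units.val_one, Matrix.neg_apply, Matrix.one_apply_eq] at h2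
    exact absurd h2 (neg_one_ne_one' )

theorem exists_compat (σ : Equiv.Perm (Fin n)) : ∃ u : (A n)ˣ, Compat (u : A n) σ := by
  induction σ using Equiv.Perm.swap_induction_on with
  | one => exact ⟨1, compat_one⟩
  | swap_mul σ i j hij ih =>
    obtain ⟨u, hu⟩ := ih
    refine ⟨uT hij * u, ?_⟩
    rw [Units.val_mul, coe_uT]
    exact (compat_T hij).mul hu

theorem proj_surjective : Function.Surjective (proj n) := by
  intro σ
  obtain ⟨u, hu⟩ := exists_compat n (σ : Equiv.Perm (Fin n))
  exact ⟨⟨(u, σ.1), hu, σ.2⟩, rfl⟩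

variable {n}

/-- An operator commuting with everything is a scalar. -/
theorem eq_scalar_of_compat_one {x : A n} (hx : Compat x 1) : x = x 0 0 • 1 := by
  have he : ∀ i, x * e i = e i * x := fun i => by simpa using hx.e_eq i
  have hP : x * P = P * x := by simpa using hx.P_eq
  have hdiag : ∀ i : Fin n, (e i * f i * P : A n) = Matrix.diagonal (fun s : Cube n => bitSign (s i)) := by
    intro i
    ext s t
    have h4 : Disjoint (Finset.univ.filter (· < i) : Finset (Fin n)) (Finset.univ.filter (i < ·)) := by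
      rw [Finset.disjoint_filter]; intro k _ h h'; exact lt_asymm h h'
    have h5 : (Finset.univ : Finset (Fin n)).erase i
        = Finset.univ.filter (· < i) ∪ Finset.univ.filter (i < ·) := by
      ext k; simp only [Finset.mem_erase, Finset.mem_univ, and_true, Finset.mem_union, Finset.mem_filter,
        true_and]
      exact lt_or_lt_iff_ne.symm
    have h2 : setSign Finset.univ s = bitSign (s i)
        * (setSign (Finset.univ.filter (· < i)) s * setSign (Finset.univ.filter (i < ·)) s) := by
      rw [setSign, setSign, setSign, ← Finset.prod_union h4, ← h5,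
        Finset.mul_prod_erase _ (fun k => bitSign (s k)) (Finset.mem_univ i)]
    simp only [e, f, P, mul_assoc, mono_mul_apply, mono_apply, setSign_add_unitVec, Finset.mem_filter,
      Finset.mem_univ, true_and, lt_irrefl, if_false, one_mul, add_unitVec_self, add_zero,
      Matrix.diagonal_apply, eq_comm (a := t)]
    by_cases hst : s = t
    · rw [if_pos hst, if_pos hst, h2]
      linear_combination bitSign (s i) * setSign_mul_self (Finset.univ.filter (· < i)) s
        * setSign (Finset.univ.filter (i < ·)) s * setSign (Finset.univ.filter (i < ·)) s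
        + bitSign (s i) * setSign_mul_self (Finset.univ.filter (i < ·)) s
    · simp [hst]
  have hxd : ∀ i, x * (e i * f i * P) = e i * f i * P * x := fun i => by
    rw [← mul_assoc, ← mul_assoc, he, mul_assoc (e i), hx.f_eq, ← mul_assoc, mul_assoc _ x, hP, ← mul_assoc]
  have hoff : ∀ s t : Cube n, s ≠ t → x s t = 0 := by
    intro s t hst
    obtain ⟨i, hi⟩ := Function.ne_iff.mp hst
    have h1 := congrFun (congrFun (hxd i) s) t
    rw [hdiag, Matrix.mul_diagonal, Matrix.diagonal_mul] at h1
    have h3 : bitSign (t i) ≠ bitSign (s i) := by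
      revert hi; generalize t i = a; generalize s i = b; revert a b; decide
    have h4 : (bitSign (t i) - bitSign (s i)) * x s t = 0 := by
      rw [sub_mul, mul_comm (bitSign (t i)), h1, sub_self]
    exact (mul_eq_zero.mp h4).resolve_left (sub_ne_zero.mpr h3)
  have hflip : ∀ (t : Cube n) (i : Fin n), x (t + unitVec i) (t + unitVec i) = x t t := by
    intro t i
    have h1 := congrFun (congrFun (he i) t) (t + unitVec i)
    simp only [e, mul_mono_apply, mono_mul_apply, add_unitVec_self] at h1
    have h0 : setSign (Finset.univ.filter (· < i)) t ≠ 0 := by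
      intro h
      have := setSign_mul_self (Finset.univ.filter (· < i)) t
      rw [h, zero_mul] at this
      exact zero_ne_one this
    rw [mul_comm] at h1
    exact (mul_left_cancel₀ h0 h1).symm
  have hconst : ∀ (S : Finset (Fin n)) (t : Cube n), (∀ k ∉ S, t k = 0) → x t t = x 0 0 := by
    intro S
    induction S using Finset.induction with
    | empty =>
      intro t ht
      rw [show t = 0 from funext fun k => ht k (Finset.notMem_empty k)]
    | insert a S ha ih =>
      intro t ht
      by_cases hta : t a = 0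
      · refine ih t fun k hk => ?_
        rcases eq_or_ne k a with rfl | hka
        · exact hta
        · exact ht k (by simp [hka, hk])
      · rw [← hflip t a]
        refine ih _ fun k hk => ?_
        rcases eq_or_ne k a with rfl | hka
        · simp only [unitVec, Pi.add_apply, Pi.single_eq_same]
          revert hta; generalize t k = b; revert b; decide
        · simp [unitVec, hka, ht k (by simp [hka, hk])]
  ext s t
  by_cases h : s = t
  · subst h
    rw [Matrix.smul_apply, Matrix.one_apply_eq, smul_eq_mul, mul_one, hconst Finset.univ s (by simp)]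
  · rw [hoff s t h, Matrix.smul_apply, Matrix.one_apply_ne h, smul_zero]

variable (n)

theorem mem_ker_proj_iff (p : Cover n) : p ∈ (proj n).ker ↔ p = 1 ∨ p = negOne n := by
  constructor
  · intro hp
    have h2 : p.1.2 = 1 := by
      have := congrArg Subtype.val (MonoidHom.mem_ker.mp hp)
      simpa using this
    have hc : Compat (p.1.1 : A n) 1 := h2 ▸ p.2.1
    set c := (p.1.1 : A n) 0 0 with hc'
    have hx : (p.1.1 : A n) = c • 1 := eq_scalar_of_compat_one hc
    have hc0 : c ≠ 0 := by
      intro h0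
      rw [h0, zero_smul] at hx
      have h1 := Units.mul_inv p.1.1
      rw [hx, zero_mul] at h1
      have h3 := congrFun (congrFun h1 0) 0
      simp at h3
    have hcases : c = 1 ∨ c = -1 := by revert hc0; generalize c = b; revert b; decide
    rcases hcases with h | h
    · left
      refine Subtype.ext (Prod.ext (Units.ext ?_) h2)
      rw [hx, h, one_smul]; rfl
    · right
      refine Subtype.ext (Prod.ext (Units.ext ?_) h2)
      rw [hx, h, neg_one_smul]; rfl
  · rintro (rfl | rfl)
    · exact one_mem _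
    · exact MonoidHom.mem_ker.mpr (Subtype.ext rfl)

theorem negOne_mem_commutator (hn : 4 ≤ n) : negOne n ∈ commutator (Cover n) := by
  let i0 : Fin n := ⟨0, by omega⟩
  let i1 : Fin n := ⟨1, by omega⟩
  let i2 : Fin n := ⟨2, by omega⟩
  let i3 : Fin n := ⟨3, by omega⟩
  have h01 : i0 ≠ i1 := by simp [i0, i1]
  have h02 : i0 ≠ i2 := by simp [i0, i2]
  have h03 : i0 ≠ i3 := by simp [i0, i3]
  have h12 : i1 ≠ i2 := by simp [i1, i2]
  have h13 : i1 ≠ i3 := by simp [i1, i3]
  have h23 : i2 ≠ i3 := by simp [i2, i3]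
  obtain ⟨a, ha, hca⟩ : ∃ a : Cover n, (a.1.1 : A n) = T i0 i1 * T i2 i3 ∧
      a.1.2 = Equiv.swap i0 i1 * Equiv.swap i2 i3 := by
    refine ⟨⟨(uT h01
      * uT h23,
      Equiv.swap i0 i1 * Equiv.swap i2 i3), (by show Compat ((uT h01 * uT h23 : (A n)ˣ) : A n) _; rw [Units.val_mul, coe_uT, coe_uT]; exact (compat_T h01).mul (compat_T h23)), ?_⟩, (by rw [Units.val_mul, coe_uT, coe_uT]), rfl⟩
    show Equiv.swap i0 i1 * Equiv.swap i2 i3 ∈ alternatingGroup (Fin n)
    simp [Equiv.Perm.mem_alternatingGroup, Equiv.Perm.sign_swap h01, Equiv.Perm.sign_swap h23]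
  obtain ⟨b, hb, hcb⟩ : ∃ b : Cover n, (b.1.1 : A n) = T i0 i2 * T i1 i3 ∧
      b.1.2 = Equiv.swap i0 i2 * Equiv.swap i1 i3 := by
    refine ⟨⟨(uT h02
      * uT h13,
      Equiv.swap i0 i2 * Equiv.swap i1 i3), (by show Compat ((uT h02 * uT h13 : (A n)ˣ) : A n) _; rw [Units.val_mul, coe_uT, coe_uT]; exact (compat_T h02).mul (compat_T h13)), ?_⟩, (by rw [Units.val_mul, coe_uT, coe_uT]), rfl⟩
    show Equiv.swap i0 i2 * Equiv.swap i1 i3 ∈ alternatingGroup (Fin n)
    simp [Equiv.Perm.mem_alternatingGroup, Equiv.Perm.sign_swap h02, Equiv.Perm.sign_swap h13]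
  have hac : Compat (a.1.1 : A n) (Equiv.swap i0 i1 * Equiv.swap i2 i3) := hca ▸ a.2.1
  have hae : ∀ m, (a.1.1 : A n) * e m = e ((Equiv.swap i0 i1 * Equiv.swap i2 i3) m) * a.1.1 := fun m => by
    rw [hac.e_eq, map_mul, sg_swap h01, sg_swap h23, neg_mul_neg, one_mul, one_smul]
  have e0 : (Equiv.swap i0 i1 * Equiv.swap i2 i3) i0 = i1 := by
    simp [Equiv.swap_apply_of_ne_of_ne h02 h03]
  have e1 : (Equiv.swap i0 i1 * Equiv.swap i2 i3) i1 = i0 := by
    simp [Equiv.swap_apply_of_ne_of_ne h12 h13]
  have e2 : (Equiv.swap i0 i1 * Equiv.swap i2 i3) i2 = i3 := by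
    simp [Equiv.swap_apply_of_ne_of_ne h03.symm h13.symm]
  have e3 : (Equiv.swap i0 i1 * Equiv.swap i2 i3) i3 = i2 := by
    simp [Equiv.swap_apply_of_ne_of_ne h02.symm h12.symm]
  have h4 : (a.1.1 : A n) * T i0 i2 = T i1 i3 * a.1.1 := by
    rw [T, mul_sub, hae, hae, e0, e2, ← sub_mul]; rfl
  have h5 : (a.1.1 : A n) * T i1 i3 = T i0 i2 * a.1.1 := by
    rw [T, mul_sub, hae, hae, e1, e3, ← sub_mul]; rfl
  have h6 : T i1 i3 * T i0 i2 = -(T i0 i2 * T i1 i3) := by
    simp only [T, sub_mul, mul_sub]
    rw [e_anti h01.symm, e_anti h12, e_anti h03.symm, e_anti h23.symm]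
    abel
  have hAB : (a.1.1 : A n) * b.1.1 = -((b.1.1 : A n) * a.1.1) := by
    rw [hb, ← mul_assoc, h4, mul_assoc, h5, ← mul_assoc, h6, neg_mul]
  have hsnd : (a * b).1.2 = (b * a).1.2 := by
    show a.1.2 * b.1.2 = b.1.2 * a.1.2
    rw [hca, hcb]
    have hdis : Equiv.swap i1 i3 * Equiv.swap i0 i2 = Equiv.swap i0 i2 * Equiv.swap i1 i3 := by
      have := Equiv.swap_apply_apply (Equiv.swap i1 i3) i0 i2
      rw [Equiv.swap_apply_of_ne_of_ne h01 h03, Equiv.swap_apply_of_ne_of_ne h12.symm h23] at this
      exact (eq_mul_inv_iff_mul_eq.mp this).symm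
    have hc1 := Equiv.swap_apply_apply (Equiv.swap i0 i1 * Equiv.swap i2 i3) i0 i2
    have hc2 := Equiv.swap_apply_apply (Equiv.swap i0 i1 * Equiv.swap i2 i3) i1 i3
    rw [e0, e2] at hc1
    rw [e1, e3] at hc2
    have hA := eq_mul_inv_iff_mul_eq.mp hc1
    have hB := eq_mul_inv_iff_mul_eq.mp hc2
    rw [← mul_assoc, ← hA, mul_assoc, ← hB, ← mul_assoc, hdis]
  have hz : a * b = negOne n * (b * a) := by
    refine Subtype.ext (Prod.ext (Units.ext ?_) ?_)
    · show (a.1.1 : A n) * b.1.1 = ((-1 : (A n)ˣ) : A n) * ((b.1.1 : A n) * a.1.1)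
      rw [hAB, Units.val_neg, Units.val_one, neg_one_mul]
    · show a.1.2 * b.1.2 = 1 * (b.1.2 * a.1.2)
      rw [one_mul]; exact hsnd
  have hcomm : a * b * a⁻¹ * b⁻¹ = negOne n := by rw [hz]; group
  rw [← hcomm]
  exact Subgroup.commutator_mem_commutator (Subgroup.mem_top a) (Subgroup.mem_top b)

end Cfsg.Agent.DoubleCoverAlt
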